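import Cfsg.Agent.Lib.Helper12.TCG.SU33x756.TabT

/-! relator checks for SU33x756, part 0 (generated, helper12) -/

set_option autoImplicit false
set_option maxRecDepth 100000
set_option Elab.async false

namespace Cfsg.Agent.Lib.Helper12.TCG.SU33x756

open Cfsg.Agent.Lib.Helper12.TC Cfsg.Agent.Lib.Helper12.TCG

theorem hperm0_0 : permPartG 18364758544492077825 TT 0 tN 0 756 = true := by decide +kernel

theorem hperm1_0 : permPartG 18364758544492077825 TT 1 tN 0 756 = true := by decide +kernel

theorem hperm2_0 : permPartG 18364758544492077825 TT 2 tN 0 756 = true := by decide +kernel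

theorem hperm3_0 : permPartG 18364758544492077825 TT 3 tN 0 756 = true := by decide +kernel

theorem hperm4_0 : permPartG 18364758544492077825 TT 4 tN 0 756 = true := by decide +kernel

theorem hperm5_0 : permPartG 18364758544492077825 TT 5 tN 0 756 = true := by decide +kernel

theorem hm0 : Fn.marksK TT tN [([2], 8)] = true := by decide +kernel

theorem hm1 : Fn.marksK TT tN [([0], 3)] = true := by decide +kernel

theorem hm2 : Fn.marksK TT tN [([2, 4, 3, 4], 1)] = true := by decide +kernel

theorem hm3 : Fn.marksK TT tN [([4], 4)] = true := by decide +kernel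

theorem hm4 : Fn.marksK TT tN [([0, 4, 4], 2)] = true := by decide +kernel

theorem hm5 : Fn.marksK TT tN [([0, 2, 0, 4, 1, 2, 2, 4, 1, 5, 0, 3], 1)] = true := by decide +kernel

theorem hm6 : Fn.marksK TT tN [([0, 2, 0, 2, 4, 1, 2, 0, 4, 1, 4, 0, 5], 1)] = true := by decide +kernel

theorem hm7 : Fn.marksK TT tN [([0, 1], 1)] = true := by decide +kernel

theorem hm8 : Fn.marksK TT tN [([1, 0], 1)] = true := by decide +kernel

theorem hm9 : Fn.marksK TT tN [([2, 3], 1)] = true := by decide +kernel

theorem hm10 : Fn.marksK TT tN [([3, 2], 1)] = true := by decide +kernel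

theorem hm11 : Fn.marksK TT tN [([4, 5], 1)] = true := by decide +kernel

theorem hm12 : Fn.marksK TT tN [([5, 4], 1)] = true := by decide +kernel

theorem hm13 : Fn.marksK TT tN [([], 1)] = true := by decide +kernel

end Cfsg.Agent.Lib.Helper12.TCG.SU33x756
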